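import Cfsg.Agent.Lib.U43Cov.Table

/-!
# A tail certificate for a Sylow `3`-subgroup of a triple cover of `PSU₄(3)`, with words in two generators
-/

set_option autoImplicit false
set_option maxRecDepth 100000
set_option maxHeartbeats 0

namespace Cfsg.Agent.Lib.U43Cov.Cert

open Cfsg.Agent.Lib.Schur.PcMain Cfsg.Agent.Lib.Schur.PcBase
open Cfsg.Agent.Lib.U43Cov.Table

def rule_0 : List (List ℕ) := [[]]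

def rule_1 : List (List ℕ) := [[1, 3], [6]]

def rule_2 : List (List ℕ) := [[2, 3, 5, 5, 6], [2, 4], [5]]

def rule_3 : List (List ℕ) := [[3, 5], [3, 6], [3, 5, 5, 6, 6], []]

def rule_4 : List (List ℕ) := [[4, 5, 6, 6], [4], [4, 5, 5, 6], [4], []]

def rule_5 : List (List ℕ) := [[5], [5], [5], [5], [5], []]

def rule_6 : List (List ℕ) := [[6], [6], [6], [6], [6], [6], []]

def item_0 : List (List ℕ) × List (List ℕ) := ([[0], [1], [2], [3], [4, 4, 5, 6, 6], [5, 5, 6, 6], [5, 5]], [[0, 0, 3, 6, 6], [0, 2, 6], [0, 1, 4, 4, 5, 6], [3, 3, 5, 5], [4, 5, 6, 6], [5, 5, 6, 6], [5, 5]])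

def item_1 : List (List ℕ) × List (List ℕ) := ([[1, 2, 2, 3, 4, 4, 5], [0], [3], [0, 1, 2, 2, 3, 3, 4, 6, 6], [5, 5, 6, 6], [5, 5]], [[0, 0, 1, 2, 2, 5, 5, 6, 6], [0, 0, 1, 1, 2, 3, 4, 4, 5, 5, 6], [0, 0, 4, 5, 6, 6], [1, 2, 2, 3, 4, 4, 5, 6, 6], [5, 5, 6, 6], [5, 5]])

def ov_0 : List ℕ × ℕ × ℕ × List (ℕ × ℤ) := ([2, 1, 0], 0, 1, [(3001, -1), (3002, 1), (4000, 1), (4003, -2), (5001, -2), (5004, 1), (5005, 1), (6001, -1), (6005, 2), (6006, 1)])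

def ov_1 : List ℕ × ℕ × ℕ × List (ℕ × ℤ) := ([3, 1, 0], 0, 1, [(5001, -1), (5003, -1), (6000, 1), (6003, -1), (6005, -1)])

def ov_2 : List ℕ × ℕ × ℕ × List (ℕ × ℤ) := ([3, 2, 0], 0, 1, [(5000, 2), (5002, -1), (5003, 2), (6000, 2), (6003, -1), (6005, -3)])

def ov_3 : List ℕ × ℕ × ℕ × List (ℕ × ℤ) := ([3, 2, 1], 0, 1, [(4003, 1), (5001, 2), (5004, -2), (6001, 2), (6002, -1), (6005, 2)])

def ov_4 : List ℕ × ℕ × ℕ × List (ℕ × ℤ) := ([4, 1, 0], 0, 1, [(4003, -1), (5001, -1), (5003, -1), (6001, -2), (6003, -2)])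

def ov_5 : List ℕ × ℕ × ℕ × List (ℕ × ℤ) := ([4, 2, 0], 0, 1, [(4003, -1), (5000, 2), (5002, -1), (5004, 2), (6000, 1), (6002, -2), (6004, 1)])

def ov_6 : List ℕ × ℕ × ℕ × List (ℕ × ℤ) := ([4, 2, 1], 0, 1, [(5001, 2), (5004, -2), (6001, 1), (6004, -1)])

def ov_7 : List ℕ × ℕ × ℕ × List (ℕ × ℤ) := ([4, 3, 0], 0, 1, [(5003, -1), (5004, 1), (6003, -2), (6005, -2)])

def ov_8 : List ℕ × ℕ × ℕ × List (ℕ × ℤ) := ([4, 3, 1], 0, 1, [(6004, 1)])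

def ov_9 : List ℕ × ℕ × ℕ × List (ℕ × ℤ) := ([4, 3, 2], 0, 1, [(5003, -2), (5004, 2), (6003, -1), (6004, 2), (6005, 2)])

def ov_10 : List ℕ × ℕ × ℕ × List (ℕ × ℤ) := ([5, 1, 0], 0, 1, [(5003, -1)])

def ov_11 : List ℕ × ℕ × ℕ × List (ℕ × ℤ) := ([5, 2, 0], 0, 1, [(5003, -1), (6005, 1)])

def ov_12 : List ℕ × ℕ × ℕ × List (ℕ × ℤ) := ([5, 2, 1], 0, 1, [(5004, -1)])

def ov_13 : List ℕ × ℕ × ℕ × List (ℕ × ℤ) := ([5, 3, 1], 0, 1, [(6005, 1)])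

def ov_14 : List ℕ × ℕ × ℕ × List (ℕ × ℤ) := ([6, 1, 0], 0, 1, [(6003, -1)])

def ov_15 : List ℕ × ℕ × ℕ × List (ℕ × ℤ) := ([1, 1, 1, 0], 0, 2, [(1000, -3), (3001, -3), (3003, -1), (6000, 1), (6001, -1), (6003, -5), (6006, -1)])

def ov_16 : List ℕ × ℕ × ℕ × List (ℕ × ℤ) := ([1, 0, 0, 0], 0, 1, [(1000, 3), (3000, 3), (3003, 1), (5000, 1), (5003, 1), (5005, 1)])

def ov_17 : List ℕ × ℕ × ℕ × List (ℕ × ℤ) := ([2, 2, 2, 0], 0, 2, [(2000, -3), (3002, -3), (3003, -1), (5000, 1), (5002, -2), (5003, -4), (5005, -4), (6002, -2), (6003, -4), (6005, -12), (6006, -3)])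

def ov_18 : List ℕ × ℕ × ℕ × List (ℕ × ℤ) := ([2, 0, 0, 0], 0, 1, [(2000, 3), (3000, 3), (3003, 1), (5000, 4), (5003, 4), (5005, 3), (6000, 3), (6003, 3), (6005, 7), (6006, 1)])

def ov_19 : List ℕ × ℕ × ℕ × List (ℕ × ℤ) := ([2, 2, 2, 1], 0, 2, [(2001, -3), (4002, -3), (4004, -1), (5001, 1), (5002, -2), (5004, -4), (5005, -2), (6002, -1), (6004, -2), (6005, -6), (6006, -1)])

def ov_20 : List ℕ × ℕ × ℕ × List (ℕ × ℤ) := ([2, 1, 1, 1], 0, 1, [(2001, 3), (4001, 3), (4004, 1), (6002, 1), (6004, 3)])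

def ov_21 : List ℕ × ℕ × ℕ × List (ℕ × ℤ) := ([3, 3, 3, 0], 0, 2, [(3000, -3), (5003, -3), (5005, -1)])

def ov_22 : List ℕ × ℕ × ℕ × List (ℕ × ℤ) := ([3, 0, 0, 0], 0, 1, [(3000, 3), (5000, 3), (5005, 1)])

def ov_23 : List ℕ × ℕ × ℕ × List (ℕ × ℤ) := ([3, 3, 3, 1], 0, 2, [(3001, -3), (6003, -3), (6006, -1)])

def ov_24 : List ℕ × ℕ × ℕ × List (ℕ × ℤ) := ([4, 4, 4, 0], 0, 2, [(4000, -3), (5004, -3), (5005, -1), (6004, -3), (6005, -3), (6006, -2)])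

def ov_25 : List ℕ × ℕ × ℕ × List (ℕ × ℤ) := ([4, 4, 4, 1], 0, 2, [(4001, -3)])

def ov_26 : List ℕ × ℕ × ℕ × List (ℕ × ℤ) := ([4, 4, 4, 2], 0, 2, [(4002, -3), (5004, -3), (5005, -2), (6004, -3), (6005, -6), (6006, -1)])

def ov_27 : List ℕ × ℕ × ℕ × List (ℕ × ℤ) := ([5, 5, 5, 0], 0, 2, [(5000, -3)])

def ov_28 : List ℕ × ℕ × ℕ × List (ℕ × ℤ) := ([1, 1, 1, 1], 0, 1, [(6001, 1)])

def ov_29 : List ℕ × ℕ × ℕ × List (ℕ × ℤ) := ([2, 2, 2, 2], 0, 1, [(5002, 1)])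

def fr_0 : ℕ × List ℕ × List ℕ × List (ℕ × ℤ) := (0, [1, 0], [0, 1, 3], [(1000, -1), (2000, 2), (3002, -1), (5000, 2), (5002, -1), (5003, 4), (6000, 1), (6002, -2), (6003, -3), (6005, -3), (1000003, -1)])

def fr_1 : ℕ × List ℕ × List ℕ × List (ℕ × ℤ) := (0, [2, 0], [0, 2, 3, 5, 5, 6, 6], [(1000, 2), (2000, -1), (3001, -1), (4000, 4), (4003, -2), (5000, 1), (5001, -1), (5003, -4), (5004, 2), (6000, 1), (6001, -2), (6003, -2), (6004, 4), (6006, 2), (1000003, -1), (1000005, -2), (1000006, -2)])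

def fr_2 : ℕ × List ℕ × List ℕ × List (ℕ × ℤ) := (0, [3, 0], [0, 3, 6, 6], [(3000, 3), (5000, 3), (5003, 2), (5005, 1), (6003, -4), (6005, -12), (1000006, -2)])

def fr_3 : ℕ × List ℕ × List ℕ × List (ℕ × ℤ) := (0, [3, 1], [1, 3, 5, 5, 6], [(3000, 2), (3001, -1), (3002, 2), (5000, 2), (5002, 1), (5003, 3), (5005, 2), (6005, 3), (6006, 1), (1000005, -2), (1000006, -1)])

def fr_4 : ℕ × List ℕ × List ℕ × List (ℕ × ℤ) := (0, [4, 0], [0, 4, 5, 5, 6, 6], [(4003, 1), (5000, 2), (5004, -1), (6000, 1), (6004, -4), (6005, -3), (1000005, -2), (1000006, -2)])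

def fr_5 : ℕ × List ℕ × List ℕ × List (ℕ × ℤ) := (0, [4, 1], [1, 4], [(4000, 1), (4001, -2), (4002, 1), (5000, 1), (5001, -1), (5002, 2), (5005, 1), (6000, 2), (6001, -2), (6002, 1), (6004, -1), (6005, 3), (6006, 1)])

def fr_6 : ℕ × List ℕ × List ℕ × List (ℕ × ℤ) := (0, [5, 5, 5], [], [(1000005, 3)])

def fr_7 : ℕ × List ℕ × List ℕ × List (ℕ × ℤ) := (0, [6, 6, 6], [], [(1000006, 3)])

def fr_8 : ℕ × List ℕ × List ℕ × List (ℕ × ℤ) := (0, [6, 0], [0, 6], [(5000, 2), (5003, 2), (6005, -4)])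

def fr_9 : ℕ × List ℕ × List ℕ × List (ℕ × ℤ) := (1, [1, 0], [0, 1, 5], [(1000, 3), (2001, -3), (3000, 3), (3001, 3), (3002, 3), (3003, 1), (4000, 6), (4002, -3), (4004, -1), (5000, 3), (5001, 1), (5004, -5), (5005, 3), (6001, -1), (6002, 4), (6003, 7), (6004, 2), (6005, 15), (6006, 6), (1001005, -1)])

def fr_10 : ℕ × List ℕ × List ℕ × List (ℕ × ℤ) := (1, [2, 1], [1, 2, 5, 5], [(1000, -4), (2000, -2), (3000, -3), (3001, -2), (3002, -4), (3003, -2), (4000, -2), (4001, 2), (4002, 1), (4003, 1), (5000, -1), (5003, -4), (5004, -4), (5005, -5), (6002, -2), (6003, -9), (6004, -2), (6005, -24), (6006, -5), (1001005, -2)])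

def tg_0 : ℕ × ℤ × List (ℕ × ℤ) := (1000, 0, [(0, 1)])

def tg_1 : ℕ × ℤ × List (ℕ × ℤ) := (2001, 0, [(1, 1)])

def tg_2 : ℕ × ℤ × List (ℕ × ℤ) := (3000, 0, [(2, 1)])

def tg_3 : ℕ × ℤ × List (ℕ × ℤ) := (3001, 0, [(3, 1)])

def tg_4 : ℕ × ℤ × List (ℕ × ℤ) := (6004, 0, [(12, 1)])

def tg_5 : ℕ × ℤ × List (ℕ × ℤ) := (5003, 0, [(14, -1)])

def tg_6 : ℕ × ℤ × List (ℕ × ℤ) := (5004, 0, [(16, -1)])

def tg_7 : ℕ × ℤ × List (ℕ × ℤ) := (6005, 0, [(17, 1)])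

def tg_8 : ℕ × ℤ × List (ℕ × ℤ) := (6003, 0, [(18, -1)])

def tg_9 : ℕ × ℤ × List (ℕ × ℤ) := (6001, 0, [(32, 1)])

def tg_10 : ℕ × ℤ × List (ℕ × ℤ) := (5002, 0, [(33, 1)])

def tg_11 : ℕ × ℤ × List (ℕ × ℤ) := (5005, 0, [(25, -1)])

def tg_12 : ℕ × ℤ × List (ℕ × ℤ) := (6006, 0, [(27, -1)])

def tg_13 : ℕ × ℤ × List (ℕ × ℤ) := (5000, 0, [(31, 1), (42, 2)])

def tg_14 : ℕ × ℤ × List (ℕ × ℤ) := (3003, 0, [(20, 1)])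

def tg_15 : ℕ × ℤ × List (ℕ × ℤ) := (6000, 0, [(19, 1)])

def tg_16 : ℕ × ℤ × List (ℕ × ℤ) := (5001, 0, [(5, -1)])

def tg_17 : ℕ × ℤ × List (ℕ × ℤ) := (4003, 0, [(8, -1)])

def tg_18 : ℕ × ℤ × List (ℕ × ℤ) := (6002, 0, [(7, -1)])

def tg_19 : ℕ × ℤ × List (ℕ × ℤ) := (4004, 0, [(24, 1), (29, 1)])

def tg_20 : ℕ × ℤ × List (ℕ × ℤ) := (3002, 0, [(4, 3), (28, 1), (36, -14), (37, -1), (38, 4), (40, 2), (41, -7)])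

def tg_21 : ℕ × ℤ × List (ℕ × ℤ) := (4000, 0, [(4, 1)])

def tg_22 : ℕ × ℤ × List (ℕ × ℤ) := (2000, 2, [(22, -3), (29, -12), (30, -10), (39, 12), (43, 12), (44, -6)])

def tg_23 : ℕ × ℤ × List (ℕ × ℤ) := (4001, 1, [(22, -1), (29, -5), (30, -3), (39, 5), (43, 4), (44, -2)])

def tg_24 : ℕ × ℤ × List (ℕ × ℤ) := (4002, 2, [(22, -2), (29, -8), (30, -7), (39, 8), (43, 8), (44, -4)])

def C : Cert where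
  p := 3
  n := 7
  r := 3
  fuel := 145
  rules := [rule_0, rule_1, rule_2, rule_3, rule_4, rule_5, rule_6]
  defs := [(1, 0), (2, 1), (3, 0), (3, 1)]
  items := [item_0, item_1]
  ovs := [ov_0, ov_1, ov_2, ov_3, ov_4, ov_5, ov_6, ov_7, ov_8, ov_9, ov_10, ov_11, ov_12, ov_13, ov_14, ov_15, ov_16, ov_17, ov_18, ov_19, ov_20, ov_21, ov_22, ov_23, ov_24, ov_25, ov_26, ov_27, ov_28, ov_29]
  frs := [fr_0, fr_1, fr_2, fr_3, fr_4, fr_5, fr_6, fr_7, fr_8, fr_9, fr_10]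
  k0 := 2000
  zm := 3
  zcomb := [(0, 3), (2, 6), (3, 3), (4, -42), (5, 942), (6, 614), (7, 1176), (8, 1779), (9, -552), (10, 155), (11, 3798), (12, 19518), (13, -9423), (14, -11631), (15, 26745), (16, -18846), (19, -1615), (20, -1624), (21, -30), (22, -9), (23, 11), (24, 5), (25, -1109), (26, 552), (27, 1622), (29, -1), (32, -552), (34, -18), (35, 18), (36, -9), (37, -18), (39, 12), (43, -6), (44, 3)]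
  targets := [tg_0, tg_1, tg_2, tg_3, tg_4, tg_5, tg_6, tg_7, tg_8, tg_9, tg_10, tg_11, tg_12, tg_13, tg_14, tg_15, tg_16, tg_17, tg_18, tg_19, tg_20, tg_21, tg_22, tg_23, tg_24]

def wE : List (List ℕ) := [[1, 1, 0, 0, 1, 0, 0, 1, 1, 0, 0, 1, 0, 1, 1, 0, 0, 1, 0, 1, 1, 0, 1, 1, 0, 0, 1, 1, 0, 0, 1, 0, 1, 0, 1], [0, 0, 1, 0, 0, 1, 1, 0, 1, 1, 0, 0, 1, 0, 0, 1, 1, 0, 0, 1, 0, 1, 1, 0, 0, 1, 1, 0, 0, 1, 0, 1, 1, 0], [1, 0, 0, 1, 0, 0, 1, 1, 0, 0, 1, 0, 1, 1, 0, 1, 1, 0, 1, 1, 0, 0, 1, 1, 0, 1, 0, 0, 1, 1, 0, 0, 1, 0, 0, 1], [0, 1, 1, 0, 1, 1, 0, 0, 1, 1, 0, 1, 0, 0, 1, 1, 0, 0, 1, 0, 0, 1, 1, 0, 0, 1, 0, 1, 1, 0, 1, 1, 0, 0, 1, 1], [0, 0, 1, 0, 1, 1, 0, 0, 1, 0, 0, 1, 1, 0, 0, 1, 0, 1, 1, 0, 0, 1, 0, 1, 1, 0, 1, 0, 0, 1, 0, 0, 1, 1], [1, 0, 1, 0, 1, 0, 0, 1, 0, 1, 1, 0, 1, 1, 0, 1, 0, 1,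 1, 0, 0, 1, 1, 0, 0, 1, 1], [0, 1, 1, 0, 0, 1, 0, 1, 0, 0, 1, 1, 0, 1, 1, 0, 1, 0, 0, 1, 1, 0, 0, 1, 0, 1, 1, 0, 0, 1, 1]]

def wY : List (List ℕ) := [[1, 0, 1, 0, 1, 0, 0, 1, 0, 0, 1, 1, 0, 0, 1, 0, 1, 0, 1, 1, 0, 1, 0, 0, 1, 0, 0, 1, 1, 0, 0, 1, 0, 0], [0, 1, 0, 0, 1, 0, 1, 1, 0, 0, 1, 0, 1, 0, 1, 1, 0, 1, 0, 0, 1, 0, 1, 1, 0, 0, 1, 1, 0]]

def lv : List (ℕ × List (List ℕ)) := [(0, [[], [0, 3], [1, 1], [2, 3, 4, 5], [0, 0, 3, 4], [1, 2, 3, 6], [1, 2, 3, 4], [1, 1, 2, 5], [0, 1, 1, 3, 4], [2, 6], [0, 3, 3, 4, 4], [1, 1, 2, 3, 5], [1, 4, 4], [1, 2, 2, 4, 4], [0, 2, 3, 3, 5], [1, 1, 4, 6], [1, 1, 2, 3, 3, 5], [3, 3, 4, 4], [1, 2, 2, 3, 3, 5], [3, 4], [1, 3, 4, 4, 6], [0, 0, 2, 3, 5], [2, 2, 6], [1, 1, 3, 4, 6], [4, 5], [1, 1, 2, 3, 6], [0, 0, 1, 3, 4, 5], [3, 4, 5], [1, 2, 2], [2, 2, 4,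 4], [0, 2], [1], [0, 3, 4, 6], [2, 4], [1, 1, 2, 4], [2, 2, 4, 5], [3, 3, 4, 5], [1, 1, 3, 5], [1, 2, 2, 3, 4], [2, 3], [0, 3, 3, 4, 5], [1, 3, 4, 6], [1, 2, 3, 3, 6], [0, 0, 4, 5], [0, 0, 3, 5], [1, 2, 2, 5], [2, 2, 3], [3, 3, 4], [1, 1, 3, 4], [0, 3, 4, 4], [2, 2, 5], [1, 3, 4, 4, 5], [1, 2, 2, 4], [2, 4, 6], [0, 2, 3, 6], [1, 1, 5], [0, 1, 3, 5], [3, 3, 4, 4, 5], [2, 3, 5], [3, 3, 6], [1, 4, 4, 5], [0, 0, 2, 3, 3], [0, 3, 3], [1, 3, 5], [0, 1], [1, 2, 2, 3, 3, 4, 5], [2, 4, 4, 6], [0, 0, 1, 2, 3], [0, 1, 4, 5], [0, 0, 4], [1, 2], [0, 0, 5], [4, 4], [1, 1, 2, 4, 4], [1, 2, 2, 4, 5], [1, 2, 2, 3, 4, 5], [2, 2, 3, 4, 4], [0, 3, 3, 5], [1, 1, 2, 3], [3, 3, 5], [1, 4, 5], [3, 4, 6], [0, 0, 1, 3], [2, 3, 4, 4, 5], [1, 1, 3, 3], [0, 0, 2, 5], [0, 1, 2, 2, 4, 5], [0, 1, 1, 2, 6], [1, 1, 3,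 3, 6], [0, 1, 2, 3], [0, 4, 6], [0, 0, 2], [0, 1, 3, 4, 5], [0, 4, 5], [1, 1, 3, 3, 5], [0, 0, 1], [1, 2, 3, 3, 4], [0, 0, 3, 3], [0, 0, 3, 3, 5], [3, 4, 4, 5], [0, 1, 3, 4], [0, 1, 2, 2, 4], [3, 4, 4], [0, 0, 2, 6], [0, 2, 2, 3], [0, 1, 1, 2], [2, 2, 3, 3, 4], [0, 0, 1, 5], [2, 3, 3], [3, 3, 4, 6], [2, 5], [0, 0, 2, 2], [1, 1, 2, 6], [0, 1, 1], [0, 0, 1, 2], [2, 3, 4, 4, 6], [0, 2, 2, 3, 3], [0, 0, 3, 3, 4, 5], [1, 2, 3], [0, 0], [2, 3, 6], [1, 1, 3, 3, 4, 5], [1, 2, 2, 3, 3], [4, 4, 5], [2, 4, 5], [2, 2, 3, 3, 4, 4], [0, 0, 1, 1], [2, 2], [1, 1, 3, 4, 5], [0, 2, 2, 3, 4], [1, 1, 4, 5], [0, 5], [3], [2, 4, 4, 5], [1, 2, 2, 3, 5], [2, 3, 4, 6], [2, 2, 3, 4], [1, 3, 3, 4], [2, 2, 3, 3], [0, 3, 3, 4], [0, 1, 1, 3, 3], [2, 3, 4], [0, 1, 4, 4], [0, 0, 2, 3, 6], [1, 1, 2], [1, 1, 3], [2, 2,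 4, 6], [2], [0, 2, 2, 4, 6], [0, 3, 4], [0, 2, 3], [1, 4], [1, 2, 3, 3], [1, 2, 6], [1, 2, 3, 5], [0, 2, 2], [1, 2, 2, 3, 3, 4], [1, 1, 4], [1, 3, 6], [1, 3, 3, 5], [1, 3], [0, 6], [3, 6], [0, 1, 1, 3, 3, 4], [0, 1, 2, 3, 3], [1, 1, 3, 3, 4], [1, 3, 4], [0, 4, 4, 5], [1, 4, 6], [0, 2, 5], [2, 2, 4, 4, 6], [1, 1, 6], [1, 2, 2, 3], [0, 0, 1, 3, 4], [1, 3, 3, 4, 5], [1, 6], [0, 2, 2, 4], [0, 1, 3, 4, 4, 5], [1, 2, 2, 4, 4, 5], [0, 1, 4, 4, 5], [1, 4, 4, 6], [2, 3, 3, 6], [0, 1, 2, 2], [1, 3, 4, 4], [0, 0, 1, 4, 5], [4, 6], [0, 0, 3, 3, 4], [1, 2, 5], [0, 0, 3], [0, 4, 4], [1, 1, 2, 3, 3, 6], [1, 1, 3, 3, 4, 6], [0, 3, 3, 4, 6], [0, 3, 4, 4, 5], [0, 0, 1, 4], [0, 0, 2, 3], [0, 1, 2, 2, 5], [3, 5], [0, 2, 2, 6], [0], [0, 1, 5], [3, 3], [2, 3, 3, 5], [0, 3, 3, 6], [0, 2, 3, 3, 6], [0, 1, 1,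 4], [0, 3, 4, 5], [0, 1, 3, 4, 4], [1, 2, 3, 4, 4], [1, 2, 4, 4], [1, 2, 3, 3, 4, 4], [0, 3, 5], [6], [0, 1, 1, 3], [0, 0, 2, 2, 4], [1, 3, 3], [1, 1, 3, 6], [2, 2, 4], [0, 0, 1, 2, 3, 3], [0, 0, 1, 1, 4], [0, 1, 1, 2, 5], [0, 4], [1, 2, 4], [0, 1, 3], [0, 3, 6], [2, 3, 4, 4], [1, 1, 2, 3, 3], [0, 0, 1, 3, 5], [0, 2, 2, 3, 3, 4], [0, 2, 6], [0, 1, 4], [0, 0, 3, 4, 5], [0, 1, 2], [5], [0, 0, 1, 1, 2], [1, 3, 4, 5], [1, 2, 3, 3, 5], [0, 2, 3, 5], [1, 5], [2, 4, 4], [4], [0, 3, 3, 4, 4, 5], [0, 2, 3, 3]]), (284, [[], [5, 5, 6, 6], [5, 6], [0, 1, 2, 4, 6, 6], [0, 1, 2, 4, 5, 5, 6], [0, 1, 2, 4, 5], [0, 0, 1, 1, 2, 2, 3, 3, 5, 5], [0, 0, 1, 1, 2, 2, 3, 3, 5, 6, 6], [0, 0, 1, 1, 2, 2, 3, 3, 6]])]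

theorem check_ok : C.check = true := by decide +kernel

abbrev base : List ℕ := [0, 1, 4, 281]

theorem hrules : chkRules pt C wE base = true := by decide +kernel

theorem hitems : ∀ f < C.items.length, chkItem pt C wE wY base f = true := by decide +kernel

theorem hlev : chkLev pt wE [] lv = true := by decide +kernel

theorem hwE : ∀ l ∈ wE, ∀ z ∈ l, z < 2 := by decide +kernel

theorem hwY : ∀ l ∈ wY, ∀ z ∈ l, z < 2 := by decide +kernel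

theorem hlvn : ∀ t ∈ lv, ∀ u ∈ t.2, ∀ y ∈ u, y < C.n := by decide +kernel

theorem hprod : (lv.map fun t => t.2.length).prod = C.p ^ C.n := by decide +kernel

end Cfsg.Agent.Lib.U43Cov.Cert
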