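import Cfsg.Agent.Lib.U43Cov.ChainX

/-! # Two generators of `PSU₄(3)` on the isotropic points and a stabilizer chain, generated by a script. -/

set_option autoImplicit false
set_option maxRecDepth 100000

namespace Cfsg.Agent.Lib.U43Cov.GData

open Cfsg.Agent.Lib.PermComp

def c2_n : Nat := nat_lit 281
def c2_w : Nat := nat_lit 9
def c2_mask : Nat := nat_lit 511
def c2_L : Nat := nat_lit 2529
def c2_maskL : Nat := nat_lit 0x1ffffffffffffffffffffffffffffffffffffffffffffffffffffffffffffffffffffffffffffffffffffffffffffffffffffffffffffffffffffffffffffffffffffffffffffffffffffffffffffffffffffffffffffffffffffffffffffffffffffffffffffffffffffffffffffffffffffffffffffffffffffffffffffffffffffffffffffffffffffffffffffffffffffffffffffffffffffffffffffffffffffffffffffffffffffffffffffffffffffffffffffffffffffffffffffffffffffffffffffffffffffffffffffffffffffffffffffffffffffffffffffffffffffffffffffffffffffffffffffffffffffffffffffffffffffffffffffffffffffffffffffffffffffffffffffffffffffffffffffffffffffffffffffffffffffffffffffffffffffffffffffffffffffffffffffffffffffffff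
def c2_idc : Nat := nat_lit 0x1188bc5a2b1489c4a231087c3a1b0c85c2a130883c1a0b0481c0a03007fbf9fafc7dbe9f2f87bbd9eaf479bc9e2f077bb9daec75ba9d2e873b99cae471b89c2e06fb79badc6db69b2d86bb59aad469b49a2d067b399acc65b2992c863b198ac461b0982c05faf97abc5dae972b85bad96ab459ac962b057ab95aac55aa952a853a994aa451a8942a04fa793a9c4da6932984ba592a9449a49229047a391a8c45a29128843a190a8441a0902803f9f8fa7c3d9e8f2783b9d8ea74399c8e270379b8da6c359a8d26833998ca6431988c2602f978ba5c2d968b2582b958aa5429948a250279389a4c259289248239188a442190882401f8f87a3c1d8e872381b8d86a34198c86230178b85a2c158a85228138984a241188842200f8783a1c0d86832180b8582a14098482210078381a0c058281208038180a04018080200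
def c2_T : List Nat := [nat_lit 0x11805c05ca79068ae1cc25bbb520f05e01a1a824a9b9f0d5090edb46c3ba20a31454268007f201a9f24838ac1de23342a6223f8404ce0e067b2580fd07970c029239e9141a30c59bc8c2338908b82d085306b212d0c6398bb157ac1688955e3d2a8a8bd15790b9ccab3380a0497251a4740859b6c5abf65319ae5785a01381b1407a26732b2484e373128448ee8914d86c76a340308b6f840450902905c2333796d1e5d1a838fb0400bad548182ab058d269b65f90318a0dc6e901a743a744a0f04c434b01096f12fa991c9f05191648d5db21fcd66e9ec32b13f01d32207d131c82f852d522115b43cb21449ab4a8ec8039cca16221b465065c93812a01c3a818a76c311febe0a8c0b0854dc41d0344f0f95c7286134f8456e199e6ba7d87c9307433dca0f41b1e0a4a23a85d4a8765b3598ce5193d12f652070ecf5, nat_lit 0x1180baf2088c34a3ccea966131ecd25437d285a208c876fd818356050021e62ae805159eed06e8a0069851ad55cfc4ab6d90781142c9af077071843942b8a1e332e1fdf24773c00aa91362b14eb45225c043e27b38dce14239976490844d3e467d1dd92400795e12386088572b75b2e00a7c27099127b74a1d748612bac0cea1201cf43f11a21ea530dc161c8d5f859b24486174e8bd4e3900029289a126423a8743e3678b58b6310a209646b2a02c32d480880c835729c894ef451818083379620c3d328058c4517a8100fe55a99667648344130a71854b2cd0730d32de331fa24da161855e9d1d22ddb070c0211cf44d450907169be1ae7d4f031251663a89d917091b5963088868d4cf173ecbf0d81204c6d579aa95aa558878e6ca628ac78dc1a10e107009b81fe374daf84e4b290a92cc431441e411509785ad8]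
def c2_prog : List (Nat × Nat × Nat) := [(nat_lit 1, nat_lit 1, nat_lit 0), (nat_lit 1, nat_lit 1, nat_lit 0), (nat_lit 0, nat_lit 2, nat_lit 3), (nat_lit 0, nat_lit 0, nat_lit 4), (nat_lit 0, nat_lit 0, nat_lit 4), (nat_lit 0, nat_lit 0, nat_lit 6), (nat_lit 0, nat_lit 0, nat_lit 6), (nat_lit 0, nat_lit 0, nat_lit 7), (nat_lit 0, nat_lit 0, nat_lit 9), (nat_lit 0, nat_lit 0, nat_lit 9), (nat_lit 0, nat_lit 0, nat_lit 10), (nat_lit 0, nat_lit 10, nat_lit 9), (nat_lit 0, nat_lit 0, nat_lit 11), (nat_lit 0, nat_lit 0, nat_lit 2), (nat_lit 0, nat_lit 15, nat_lit 15), (nat_lit 0, nat_lit 0, nat_lit 15), (nat_lit 0, nat_lit 0, nat_lit 17), (nat_lit 0, nat_lit 0, nat_lit 18), (nat_lit 0, nat_lit 0, nat_lit 18), (nat_lit 0, nat_lit 0, nat_lit 19), (nat_lit 0, nat_lit 0, nat_lit 21), (nat_lit 0, nat_lit 0, nat_lit 21), (nat_lit 0, nat_lit 0, nat_lit 23), (nat_lit 0, nat_lit 22, nat_lit 22), (nat_lit 0, nat_lit 0, nat_lit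 22), (nat_lit 0, nat_lit 0, nat_lit 24), (nat_lit 0, nat_lit 0, nat_lit 25), (nat_lit 0, nat_lit 0, nat_lit 25), (nat_lit 0, nat_lit 0, nat_lit 27), (nat_lit 0, nat_lit 0, nat_lit 27), (nat_lit 0, nat_lit 0, nat_lit 28), (nat_lit 0, nat_lit 0, nat_lit 30), (nat_lit 0, nat_lit 0, nat_lit 9), (nat_lit 1, nat_lit 19, nat_lit 0), (nat_lit 1, nat_lit 1, nat_lit 0), (nat_lit 0, nat_lit 21, nat_lit 2), (nat_lit 0, nat_lit 0, nat_lit 22), (nat_lit 0, nat_lit 0, nat_lit 4), (nat_lit 0, nat_lit 0, nat_lit 24), (nat_lit 0, nat_lit 0, nat_lit 25), (nat_lit 0, nat_lit 0, nat_lit 7), (nat_lit 0, nat_lit 0, nat_lit 27), (nat_lit 0, nat_lit 0, nat_lit 9), (nat_lit 0, nat_lit 0, nat_lit 10), (nat_lit 0, nat_lit 0, nat_lit 30), (nat_lit 0, nat_lit 10, nat_lit 10), (nat_lit 0, nat_lit 0, nat_lit 12), (nat_lit 0, nat_lit 0, nat_lit 12), (nat_lit 0, nat_lit 0, nat_lit 14), (nat_lit 0, nat_lit 0, nat_lit 15), (nat_lit 0, nat_lit 0, nat_lit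 16), (nat_lit 0, nat_lit 0, nat_lit 6), (nat_lit 0, nat_lit 18, nat_lit 18), (nat_lit 0, nat_lit 39, nat_lit 39), (nat_lit 0, nat_lit 0, nat_lit 21), (nat_lit 0, nat_lit 21, nat_lit 20), (nat_lit 0, nat_lit 0, nat_lit 22), (nat_lit 0, nat_lit 4, nat_lit 23), (nat_lit 0, nat_lit 0, nat_lit 23), (nat_lit 0, nat_lit 22, nat_lit 45), (nat_lit 0, nat_lit 0, nat_lit 46), (nat_lit 0, nat_lit 0, nat_lit 47), (nat_lit 0, nat_lit 0, nat_lit 29), (nat_lit 0, nat_lit 0, nat_lit 49), (nat_lit 0, nat_lit 9, nat_lit 50), (nat_lit 0, nat_lit 6, nat_lit 31), (nat_lit 0, nat_lit 1, nat_lit 52), (nat_lit 0, nat_lit 0, nat_lit 34), (nat_lit 0, nat_lit 0, nat_lit 35), (nat_lit 0, nat_lit 3, nat_lit 0), (nat_lit 0, nat_lit 6, nat_lit 56), (nat_lit 0, nat_lit 0, nat_lit 38), (nat_lit 0, nat_lit 15, nat_lit 37), (nat_lit 0, nat_lit 0, nat_lit 38), (nat_lit 0, nat_lit 0, nat_lit 2), (nat_lit 0, nat_lit 5, nat_lit 0), (nat_lit 0, nat_lit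 0, nat_lit 6), (nat_lit 0, nat_lit 0, nat_lit 25)]
def c2_s0 : Nat := nat_lit 0x11805c05ca79068ae1cc25bbb520f05e01a1a824a9b9f0d5090edb46c3ba20a31454268007f201a9f24838ac1de23342a6223f8404ce0e067b2580fd07970c029239e9141a30c59bc8c2338908b82d085306b212d0c6398bb157ac1688955e3d2a8a8bd15790b9ccab3380a0497251a4740859b6c5abf65319ae5785a01381b1407a26732b2484e373128448ee8914d86c76a340308b6f840450902905c2333796d1e5d1a838fb0400bad548182ab058d269b65f90318a0dc6e901a743a744a0f04c434b01096f12fa991c9f05191648d5db21fcd66e9ec32b13f01d32207d131c82f852d522115b43cb21449ab4a8ec8039cca16221b465065c93812a01c3a818a76c311febe0a8c0b0854dc41d0344f0f95c7286134f8456e199e6ba7d87c9307433dca0f41b1e0a4a23a85d4a8765b3598ce5193d12f652070ecf5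
def c2_s1 : Nat := nat_lit 0x1187230d1469631b06d0d7322dce8d0f448d6c427431186a5444d8ae5070301e0d248e5b3011d2144c686bc104a6533bdd06d87a42c962442368942333121ea377b0e22082588c5567f84ab1be56449f61c5543221acdd3f34e0e332a379003229a1c60d454b5555026e09dde4d4bac932b517c50e0ba771b52c6e4c0d058b3173b45aec5a1bc32517d43ca46458309f10857afd829d313e535030dab8c6fb0d2b580184d93d3850831847ea310a820a225f0f9c69e800f5c0e23e2f13e7988a9478bd50a9076e1511e83e7b1042976573a29da0586916c8f1775a04e6e867ba5a21c221648c72229c4b4ea4a874ec403c10d73166536d28c73ab20ee4c5b10570935ba4884c9670d5e228798acbf15489819a8e7823de4a62e0a4bccc2eb2c54900200c0c0109859f80a7e824201208851fc070a85c10027f8141600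
def c2_s2 : Nat := nat_lit 0x1188bc522d1581c2218fe8042e1f067ec4e210580c4624ff85411f90d814261d07198c86230401fcfc7d562ad54a96b355a8d3078381a0c44a210e862b154a8536fb79badc139c0de6e36a9548a35111c8c452202c140904275389b4d3198ac461bcde4f1780984a241193172b85bad874391c0dcc08d4622d14c260b017e160e15ddeee76bb19ccd6632c0e060281132984ba58964a24921f6fa7cbe044211007c864220900d86b351a54e150a04c24954a24d24be5eaf176eb753a5d01b0d064305f2f174b86833998cab55a2cd643642a11068269345a0cf088bc5c2d16148a25027b6d50353e1ecf4792d968b25873b99cae40e8f87a3c1d990c66230ac5741748a411e8e71b89c2e0158a85228271e0ee763aac15eae568d020816d365b0d70f135eef67abd14c3f3a1cce47150a813e9e6532590c7018080200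
def c2_s3 : Nat := nat_lit 0x1188ac522d17649ccdecd19051eca04e3e81c1a05129aaea52018fe943da41b2ee27415246e08bfc081331a3482233043544310ec2cfacc578bde269288f8ccdc609e0a8b23a2062618518d622f8498f572976195e089a3f05dfc0c029dd0a450f8b8b6bc43231c6aa2e28442566020910f3571612a5e21989c0c5341416c805281d4d0263bd420fd09025510165ba5ccc210110390a36b51750c18124545262259a2642eaa472b043aed9434883a136db89120325a1d1a9e0167e0201ab18034df2e269090808473acca6b815b74caf74c37d6e4f55899c26175af4d859569196a835fb58164b26c1d3c7235a24702c6f318523b0aad044e53a894bed0450cce0ce1fc39e89f212b116cf2a91cece40d99d323c143c97c2d1b83d3afb0f424e2c848bbc4f083cb60f8da1b43dd88f53c0daeed264191c7a0100c0200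
noncomputable def c2_lev0 : Core.Lev := Core.mkLev c2_n c2_w c2_mask c2_L c2_maskL c2_idc (nat_lit 0) [c2_s3, c2_s2, c2_s1, c2_s0] [(nat_lit 245, c2_s0, nat_lit 0), (nat_lit 4, c2_s3, nat_lit 245), (nat_lit 126, c2_s2, nat_lit 245), (nat_lit 38, c2_s1, nat_lit 245), (nat_lit 249, c2_s0, nat_lit 245), (nat_lit 122, c2_s3, nat_lit 4), (nat_lit 199, c2_s2, nat_lit 4), (nat_lit 2, c2_s1, nat_lit 4), (nat_lit 246, c2_s0, nat_lit 4), (nat_lit 232, c2_s3, nat_lit 126), (nat_lit 19, c2_s2, nat_lit 126), (nat_lit 160, c2_s1, nat_lit 126), (nat_lit 172, c2_s0, nat_lit 126), (nat_lit 103, c2_s3, nat_lit 38), (nat_lit 120, c2_s2, nat_lit 38), (nat_lit 96, c2_s1, nat_lit 38), (nat_lit 62, c2_s0, nat_lit 38), (nat_lit 146, c2_s3, nat_lit 249), (nat_lit 49, c2_s2, nat_lit 249), (nat_lit 217, c2_s1, nat_lit 249), (nat_lit 72, c2_s3, nat_lit 122), (nat_lit 147, c2_s2, nat_lit 122), (nat_lit 5, c2_s3, nat_lit 199), (nat_lit 154,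 c2_s2, nat_lit 199), (nat_lit 84, c2_s1, nat_lit 199), (nat_lit 209, c2_s0, nat_lit 199), (nat_lit 3, c2_s3, nat_lit 2), (nat_lit 28, c2_s0, nat_lit 2), (nat_lit 255, c2_s3, nat_lit 246), (nat_lit 127, c2_s2, nat_lit 246), (nat_lit 133, c2_s1, nat_lit 246), (nat_lit 106, c2_s0, nat_lit 246), (nat_lit 204, c2_s3, nat_lit 232), (nat_lit 12, c2_s2, nat_lit 232), (nat_lit 36, c2_s1, nat_lit 232), (nat_lit 224, c2_s0, nat_lit 232), (nat_lit 121, c2_s3, nat_lit 19), (nat_lit 54, c2_s0, nat_lit 19), (nat_lit 253, c2_s3, nat_lit 160), (nat_lit 205, c2_s2, nat_lit 160), (nat_lit 81, c2_s1, nat_lit 160), (nat_lit 55, c2_s0, nat_lit 160), (nat_lit 197, c2_s3, nat_lit 172), (nat_lit 194, c2_s2, nat_lit 172), (nat_lit 110, c2_s1, nat_lit 172), (nat_lit 87, c2_s0, nat_lit 172), (nat_lit 231, c2_s3, nat_lit 103), (nat_lit 162, c2_s1, nat_lit 103), (nat_lit 95, c2_s0, nat_lit 103), (nat_lit 90, c2_s3, nat_lit 120), (nat_lit 190,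 c2_s2, nat_lit 120), (nat_lit 158, c2_s1, nat_lit 120), (nat_lit 259, c2_s0, nat_lit 120), (nat_lit 247, c2_s3, nat_lit 96), (nat_lit 141, c2_s0, nat_lit 96), (nat_lit 180, c2_s3, nat_lit 62), (nat_lit 219, c2_s1, nat_lit 62), (nat_lit 109, c2_s0, nat_lit 62), (nat_lit 212, c2_s3, nat_lit 146), (nat_lit 16, c2_s0, nat_lit 146), (nat_lit 244, c2_s3, nat_lit 49), (nat_lit 143, c2_s2, nat_lit 49), (nat_lit 66, c2_s1, nat_lit 49), (nat_lit 275, c2_s3, nat_lit 217), (nat_lit 111, c2_s2, nat_lit 217), (nat_lit 171, c2_s1, nat_lit 217), (nat_lit 222, c2_s0, nat_lit 217), (nat_lit 114, c2_s3, nat_lit 72), (nat_lit 234, c2_s1, nat_lit 72), (nat_lit 20, c2_s0, nat_lit 72), (nat_lit 73, c2_s2, nat_lit 147), (nat_lit 98, c2_s1, nat_lit 147), (nat_lit 223, c2_s0, nat_lit 147), (nat_lit 142, c2_s3, nat_lit 5), (nat_lit 200, c2_s2, nat_lit 5), (nat_lit 8, c2_s1, nat_lit 5), (nat_lit 137, c2_s0, nat_lit 5), (nat_lit 233, c2_s3,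 nat_lit 154), (nat_lit 83, c2_s0, nat_lit 154), (nat_lit 89, c2_s3, nat_lit 84), (nat_lit 45, c2_s2, nat_lit 84), (nat_lit 32, c2_s0, nat_lit 84), (nat_lit 185, c2_s3, nat_lit 209), (nat_lit 70, c2_s2, nat_lit 209), (nat_lit 270, c2_s1, nat_lit 209), (nat_lit 152, c2_s0, nat_lit 209), (nat_lit 164, c2_s0, nat_lit 3), (nat_lit 251, c2_s3, nat_lit 28), (nat_lit 129, c2_s2, nat_lit 28), (nat_lit 186, c2_s0, nat_lit 28), (nat_lit 123, c2_s3, nat_lit 255), (nat_lit 258, c2_s2, nat_lit 255), (nat_lit 14, c2_s1, nat_lit 255), (nat_lit 119, c2_s0, nat_lit 255), (nat_lit 272, c2_s3, nat_lit 127), (nat_lit 33, c2_s1, nat_lit 127), (nat_lit 261, c2_s0, nat_lit 127), (nat_lit 57, c2_s3, nat_lit 133), (nat_lit 108, c2_s2, nat_lit 133), (nat_lit 156, c2_s1, nat_lit 133), (nat_lit 125, c2_s0, nat_lit 133), (nat_lit 93, c2_s2, nat_lit 106), (nat_lit 9, c2_s2, nat_lit 204), (nat_lit 221, c2_s1, nat_lit 204), (nat_lit 113, c2_s2,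 nat_lit 12), (nat_lit 18, c2_s1, nat_lit 12), (nat_lit 135, c2_s0, nat_lit 12), (nat_lit 60, c2_s3, nat_lit 36), (nat_lit 118, c2_s2, nat_lit 36), (nat_lit 220, c2_s3, nat_lit 224), (nat_lit 41, c2_s0, nat_lit 224), (nat_lit 25, c2_s3, nat_lit 121), (nat_lit 227, c2_s1, nat_lit 121), (nat_lit 252, c2_s0, nat_lit 121), (nat_lit 51, c2_s3, nat_lit 54), (nat_lit 177, c2_s2, nat_lit 54), (nat_lit 65, c2_s1, nat_lit 54), (nat_lit 15, c2_s1, nat_lit 253), (nat_lit 260, c2_s3, nat_lit 205), (nat_lit 10, c2_s2, nat_lit 205), (nat_lit 214, c2_s1, nat_lit 205), (nat_lit 99, c2_s0, nat_lit 205), (nat_lit 181, c2_s3, nat_lit 81), (nat_lit 228, c2_s0, nat_lit 81), (nat_lit 138, c2_s3, nat_lit 55), (nat_lit 97, c2_s2, nat_lit 55), (nat_lit 182, c2_s1, nat_lit 55), (nat_lit 56, c2_s0, nat_lit 55), (nat_lit 128, c2_s1, nat_lit 197), (nat_lit 175, c2_s0, nat_lit 197), (nat_lit 46, c2_s3, nat_lit 194), (nat_lit 243, c2_s2, nat_lit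 194), (nat_lit 42, c2_s0, nat_lit 194), (nat_lit 211, c2_s3, nat_lit 110), (nat_lit 165, c2_s1, nat_lit 110), (nat_lit 235, c2_s3, nat_lit 87), (nat_lit 17, c2_s2, nat_lit 87), (nat_lit 132, c2_s1, nat_lit 231), (nat_lit 207, c2_s0, nat_lit 231), (nat_lit 236, c2_s2, nat_lit 162), (nat_lit 116, c2_s1, nat_lit 95), (nat_lit 187, c2_s0, nat_lit 95), (nat_lit 91, c2_s1, nat_lit 90), (nat_lit 140, c2_s3, nat_lit 190), (nat_lit 213, c2_s1, nat_lit 190), (nat_lit 203, c2_s2, nat_lit 158), (nat_lit 271, c2_s1, nat_lit 158), (nat_lit 161, c2_s0, nat_lit 158), (nat_lit 266, c2_s2, nat_lit 259), (nat_lit 168, c2_s1, nat_lit 259), (nat_lit 58, c2_s1, nat_lit 247), (nat_lit 64, c2_s0, nat_lit 247), (nat_lit 34, c2_s2, nat_lit 141), (nat_lit 225, c2_s0, nat_lit 141), (nat_lit 39, c2_s2, nat_lit 219), (nat_lit 24, c2_s2, nat_lit 109), (nat_lit 248, c2_s3, nat_lit 212), (nat_lit 163, c2_s2, nat_lit 212), (nat_lit 86, c2_s1, nat_lit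 212), (nat_lit 184, c2_s0, nat_lit 212), (nat_lit 218, c2_s3, nat_lit 16), (nat_lit 63, c2_s2, nat_lit 16), (nat_lit 104, c2_s1, nat_lit 244), (nat_lit 48, c2_s3, nat_lit 143), (nat_lit 27, c2_s1, nat_lit 143), (nat_lit 198, c2_s3, nat_lit 66), (nat_lit 230, c2_s2, nat_lit 66), (nat_lit 67, c2_s1, nat_lit 66), (nat_lit 201, c2_s3, nat_lit 275), (nat_lit 13, c2_s0, nat_lit 275), (nat_lit 256, c2_s3, nat_lit 111), (nat_lit 26, c2_s2, nat_lit 111), (nat_lit 273, c2_s1, nat_lit 111), (nat_lit 148, c2_s0, nat_lit 111), (nat_lit 193, c2_s2, nat_lit 171), (nat_lit 267, c2_s0, nat_lit 171), (nat_lit 188, c2_s1, nat_lit 114), (nat_lit 157, c2_s0, nat_lit 114), (nat_lit 264, c2_s3, nat_lit 20), (nat_lit 1, c2_s1, nat_lit 20), (nat_lit 179, c2_s2, nat_lit 98), (nat_lit 100, c2_s0, nat_lit 98), (nat_lit 71, c2_s0, nat_lit 223), (nat_lit 174, c2_s1, nat_lit 142), (nat_lit 155, c2_s2, nat_lit 200), (nat_lit 237, c2_s3, nat_lit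 8), (nat_lit 7, c2_s1, nat_lit 8), (nat_lit 206, c2_s0, nat_lit 8), (nat_lit 192, c2_s1, nat_lit 137), (nat_lit 75, c2_s1, nat_lit 233), (nat_lit 112, c2_s0, nat_lit 233), (nat_lit 173, c2_s3, nat_lit 83), (nat_lit 44, c2_s2, nat_lit 83), (nat_lit 250, c2_s0, nat_lit 83), (nat_lit 208, c2_s2, nat_lit 89), (nat_lit 139, c2_s3, nat_lit 45), (nat_lit 241, c2_s1, nat_lit 45), (nat_lit 88, c2_s0, nat_lit 45), (nat_lit 166, c2_s1, nat_lit 32), (nat_lit 69, c2_s0, nat_lit 32), (nat_lit 239, c2_s1, nat_lit 185), (nat_lit 29, c2_s1, nat_lit 70), (nat_lit 238, c2_s2, nat_lit 164), (nat_lit 115, c2_s0, nat_lit 164), (nat_lit 78, c2_s3, nat_lit 251), (nat_lit 202, c2_s3, nat_lit 129), (nat_lit 167, c2_s2, nat_lit 129), (nat_lit 170, c2_s0, nat_lit 129), (nat_lit 76, c2_s2, nat_lit 186), (nat_lit 274, c2_s3, nat_lit 123), (nat_lit 6, c2_s3, nat_lit 258), (nat_lit 59, c2_s0, nat_lit 258), (nat_lit 23, c2_s0, nat_lit 14), (nat_lit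 189, c2_s2, nat_lit 119), (nat_lit 254, c2_s2, nat_lit 272), (nat_lit 269, c2_s1, nat_lit 272), (nat_lit 242, c2_s1, nat_lit 33), (nat_lit 124, c2_s0, nat_lit 33), (nat_lit 226, c2_s3, nat_lit 108), (nat_lit 257, c2_s3, nat_lit 156), (nat_lit 183, c2_s3, nat_lit 93), (nat_lit 131, c2_s2, nat_lit 93), (nat_lit 215, c2_s3, nat_lit 9), (nat_lit 159, c2_s2, nat_lit 9), (nat_lit 216, c2_s3, nat_lit 18), (nat_lit 22, c2_s1, nat_lit 18), (nat_lit 53, c2_s0, nat_lit 135), (nat_lit 229, c2_s3, nat_lit 60), (nat_lit 262, c2_s0, nat_lit 60), (nat_lit 61, c2_s1, nat_lit 118), (nat_lit 178, c2_s3, nat_lit 220), (nat_lit 130, c2_s1, nat_lit 220), (nat_lit 102, c2_s1, nat_lit 227), (nat_lit 263, c2_s2, nat_lit 252), (nat_lit 276, c2_s0, nat_lit 252), (nat_lit 145, c2_s2, nat_lit 51), (nat_lit 149, c2_s3, nat_lit 177), (nat_lit 101, c2_s0, nat_lit 65), (nat_lit 117, c2_s0, nat_lit 15), (nat_lit 43, c2_s3, nat_lit 99), (nat_lit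 136, c2_s3, nat_lit 181), (nat_lit 153, c2_s1, nat_lit 181), (nat_lit 105, c2_s3, nat_lit 228), (nat_lit 134, c2_s2, nat_lit 228), (nat_lit 35, c2_s1, nat_lit 228), (nat_lit 150, c2_s3, nat_lit 138), (nat_lit 31, c2_s2, nat_lit 138), (nat_lit 52, c2_s3, nat_lit 128), (nat_lit 21, c2_s2, nat_lit 128), (nat_lit 82, c2_s0, nat_lit 17), (nat_lit 176, c2_s3, nat_lit 132), (nat_lit 107, c2_s2, nat_lit 132), (nat_lit 80, c2_s1, nat_lit 132), (nat_lit 195, c2_s3, nat_lit 207), (nat_lit 68, c2_s2, nat_lit 207), (nat_lit 92, c2_s3, nat_lit 187), (nat_lit 210, c2_s2, nat_lit 91), (nat_lit 279, c2_s0, nat_lit 203), (nat_lit 50, c2_s3, nat_lit 271), (nat_lit 37, c2_s3, nat_lit 58), (nat_lit 278, c2_s1, nat_lit 64), (nat_lit 77, c2_s0, nat_lit 34), (nat_lit 144, c2_s1, nat_lit 24), (nat_lit 47, c2_s2, nat_lit 86), (nat_lit 151, c2_s0, nat_lit 184), (nat_lit 30, c2_s3, nat_lit 27), (nat_lit 265, c2_s3, nat_lit 26), (nat_lit 268,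 c2_s2, nat_lit 273), (nat_lit 74, c2_s2, nat_lit 148), (nat_lit 94, c2_s0, nat_lit 193), (nat_lit 196, c2_s1, nat_lit 264), (nat_lit 11, c2_s1, nat_lit 1), (nat_lit 277, c2_s0, nat_lit 192), (nat_lit 40, c2_s1, nat_lit 44), (nat_lit 85, c2_s1, nat_lit 208), (nat_lit 169, c2_s0, nat_lit 238), (nat_lit 79, c2_s0, nat_lit 6), (nat_lit 240, c2_s3, nat_lit 117), (nat_lit 191, c2_s1, nat_lit 150)]
noncomputable def c2_lev1 : Core.Lev := Core.mkLev c2_n c2_w c2_mask c2_L c2_maskL c2_idc (nat_lit 1) [c2_s3, c2_s2, c2_s1] [(nat_lit 11, c2_s1, nat_lit 1), (nat_lit 167, c2_s3, nat_lit 11), (nat_lit 161, c2_s2, nat_lit 11), (nat_lit 17, c2_s1, nat_lit 11), (nat_lit 165, c2_s3, nat_lit 167), (nat_lit 28, c2_s2, nat_lit 167), (nat_lit 46, c2_s1, nat_lit 167), (nat_lit 16, c2_s3, nat_lit 161), (nat_lit 206, c2_s2, nat_lit 161), (nat_lit 25, c2_s1, nat_lit 161), (nat_lit 124, c2_s3, nat_lit 17), (nat_lit 166, c2_s2, nat_lit 17),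 (nat_lit 252, c2_s1, nat_lit 17), (nat_lit 239, c2_s2, nat_lit 165), (nat_lit 45, c2_s1, nat_lit 165), (nat_lit 251, c2_s3, nat_lit 28), (nat_lit 129, c2_s2, nat_lit 28), (nat_lit 204, c2_s1, nat_lit 28), (nat_lit 172, c2_s3, nat_lit 46), (nat_lit 226, c2_s2, nat_lit 46), (nat_lit 53, c2_s1, nat_lit 46), (nat_lit 218, c2_s3, nat_lit 16), (nat_lit 63, c2_s2, nat_lit 16), (nat_lit 10, c2_s1, nat_lit 16), (nat_lit 87, c2_s3, nat_lit 206), (nat_lit 136, c2_s1, nat_lit 206), (nat_lit 113, c2_s3, nat_lit 25), (nat_lit 216, c2_s2, nat_lit 25), (nat_lit 42, c2_s1, nat_lit 25), (nat_lit 219, c2_s3, nat_lit 124), (nat_lit 149, c2_s2, nat_lit 124), (nat_lit 34, c2_s1, nat_lit 124), (nat_lit 7, c2_s3, nat_lit 166), (nat_lit 237, c2_s1, nat_lit 166), (nat_lit 238, c2_s3, nat_lit 252), (nat_lit 263, c2_s2, nat_lit 252), (nat_lit 13, c2_s1, nat_lit 252), (nat_lit 96, c2_s3, nat_lit 239), (nat_lit 214, c2_s2, nat_lit 239), (nat_lit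 103, c2_s1, nat_lit 239), (nat_lit 139, c2_s3, nat_lit 45), (nat_lit 225, c2_s2, nat_lit 45), (nat_lit 241, c2_s1, nat_lit 45), (nat_lit 78, c2_s3, nat_lit 251), (nat_lit 51, c2_s2, nat_lit 251), (nat_lit 73, c2_s1, nat_lit 251), (nat_lit 202, c2_s3, nat_lit 129), (nat_lit 154, c2_s3, nat_lit 204), (nat_lit 9, c2_s2, nat_lit 204), (nat_lit 221, c2_s1, nat_lit 204), (nat_lit 197, c2_s3, nat_lit 172), (nat_lit 194, c2_s2, nat_lit 172), (nat_lit 110, c2_s1, nat_lit 172), (nat_lit 62, c2_s3, nat_lit 226), (nat_lit 85, c2_s2, nat_lit 226), (nat_lit 72, c2_s1, nat_lit 226), (nat_lit 112, c2_s3, nat_lit 53), (nat_lit 186, c2_s2, nat_lit 53), (nat_lit 184, c2_s1, nat_lit 53), (nat_lit 49, c2_s1, nat_lit 218), (nat_lit 21, c2_s3, nat_lit 63), (nat_lit 29, c2_s2, nat_lit 63), (nat_lit 259, c2_s3, nat_lit 10), (nat_lit 160, c2_s2, nat_lit 10), (nat_lit 20, c2_s1, nat_lit 10), (nat_lit 235, c2_s3, nat_lit 87), (nat_lit 100,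 c2_s3, nat_lit 136), (nat_lit 66, c2_s2, nat_lit 136), (nat_lit 24, c2_s1, nat_lit 136), (nat_lit 232, c2_s2, nat_lit 113), (nat_lit 159, c2_s1, nat_lit 113), (nat_lit 127, c2_s1, nat_lit 216), (nat_lit 71, c2_s3, nat_lit 42), (nat_lit 43, c2_s1, nat_lit 42), (nat_lit 116, c2_s3, nat_lit 219), (nat_lit 39, c2_s2, nat_lit 219), (nat_lit 177, c2_s1, nat_lit 219), (nat_lit 75, c2_s2, nat_lit 149), (nat_lit 193, c2_s1, nat_lit 149), (nat_lit 242, c2_s3, nat_lit 34), (nat_lit 176, c2_s2, nat_lit 34), (nat_lit 143, c2_s1, nat_lit 34), (nat_lit 76, c2_s3, nat_lit 7), (nat_lit 162, c2_s3, nat_lit 237), (nat_lit 212, c2_s2, nat_lit 237), (nat_lit 131, c2_s1, nat_lit 237), (nat_lit 269, c2_s3, nat_lit 238), (nat_lit 213, c2_s2, nat_lit 238), (nat_lit 247, c2_s1, nat_lit 238), (nat_lit 257, c2_s2, nat_lit 263), (nat_lit 236, c2_s3, nat_lit 13), (nat_lit 114, c2_s2, nat_lit 13), (nat_lit 54, c2_s2, nat_lit 96), (nat_lit 231,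 c2_s3, nat_lit 103), (nat_lit 196, c2_s3, nat_lit 139), (nat_lit 32, c2_s2, nat_lit 139), (nat_lit 26, c2_s1, nat_lit 139), (nat_lit 102, c2_s3, nat_lit 225), (nat_lit 84, c2_s2, nat_lit 225), (nat_lit 245, c2_s1, nat_lit 225), (nat_lit 65, c2_s3, nat_lit 241), (nat_lit 170, c2_s2, nat_lit 241), (nat_lit 37, c2_s1, nat_lit 241), (nat_lit 89, c2_s1, nat_lit 78), (nat_lit 145, c2_s2, nat_lit 51), (nat_lit 183, c2_s1, nat_lit 51), (nat_lit 158, c2_s3, nat_lit 73), (nat_lit 122, c2_s2, nat_lit 73), (nat_lit 90, c2_s1, nat_lit 73), (nat_lit 23, c2_s3, nat_lit 202), (nat_lit 157, c2_s2, nat_lit 202), (nat_lit 211, c2_s1, nat_lit 202), (nat_lit 233, c2_s3, nat_lit 154), (nat_lit 4, c2_s2, nat_lit 154), (nat_lit 215, c2_s3, nat_lit 9), (nat_lit 254, c2_s1, nat_lit 9), (nat_lit 272, c2_s1, nat_lit 221), (nat_lit 133, c2_s3, nat_lit 197), (nat_lit 128, c2_s1, nat_lit 197), (nat_lit 243, c2_s2, nat_lit 194), (nat_lit 135,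 c2_s1, nat_lit 194), (nat_lit 180, c2_s3, nat_lit 62), (nat_lit 108, c2_s3, nat_lit 85), (nat_lit 115, c2_s1, nat_lit 85), (nat_lit 121, c2_s2, nat_lit 72), (nat_lit 234, c2_s1, nat_lit 72), (nat_lit 27, c2_s2, nat_lit 112), (nat_lit 86, c2_s3, nat_lit 184), (nat_lit 77, c2_s1, nat_lit 184), (nat_lit 244, c2_s3, nat_lit 49), (nat_lit 6, c2_s1, nat_lit 21), (nat_lit 94, c2_s1, nat_lit 29), (nat_lit 164, c2_s3, nat_lit 259), (nat_lit 266, c2_s2, nat_lit 259), (nat_lit 168, c2_s1, nat_lit 259), (nat_lit 253, c2_s3, nat_lit 160), (nat_lit 205, c2_s2, nat_lit 160), (nat_lit 81, c2_s1, nat_lit 160), (nat_lit 264, c2_s3, nat_lit 20), (nat_lit 246, c2_s2, nat_lit 20), (nat_lit 15, c2_s2, nat_lit 235), (nat_lit 181, c2_s2, nat_lit 100), (nat_lit 123, c2_s1, nat_lit 100), (nat_lit 198, c2_s3, nat_lit 66), (nat_lit 230, c2_s2, nat_lit 66), (nat_lit 67, c2_s1, nat_lit 66), (nat_lit 200, c2_s3, nat_lit 24), (nat_lit 144, c2_s1,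 nat_lit 24), (nat_lit 12, c2_s2, nat_lit 232), (nat_lit 36, c2_s1, nat_lit 232), (nat_lit 18, c2_s3, nat_lit 159), (nat_lit 250, c2_s1, nat_lit 159), (nat_lit 33, c2_s1, nat_lit 127), (nat_lit 107, c2_s3, nat_lit 71), (nat_lit 91, c2_s2, nat_lit 71), (nat_lit 22, c2_s3, nat_lit 116), (nat_lit 69, c2_s1, nat_lit 75), (nat_lit 48, c2_s1, nat_lit 193), (nat_lit 141, c2_s3, nat_lit 242), (nat_lit 171, c2_s2, nat_lit 242), (nat_lit 260, c2_s1, nat_lit 242), (nat_lit 249, c2_s2, nat_lit 143), (nat_lit 111, c2_s1, nat_lit 162), (nat_lit 248, c2_s3, nat_lit 212), (nat_lit 163, c2_s2, nat_lit 212), (nat_lit 106, c2_s2, nat_lit 131), (nat_lit 262, c2_s1, nat_lit 131), (nat_lit 271, c2_s2, nat_lit 269), (nat_lit 273, c2_s3, nat_lit 213), (nat_lit 223, c2_s1, nat_lit 213), (nat_lit 58, c2_s1, nat_lit 247), (nat_lit 8, c2_s3, nat_lit 114), (nat_lit 188, c2_s1, nat_lit 114), (nat_lit 175, c2_s3, nat_lit 231), (nat_lit 137, c2_s2,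 nat_lit 231), (nat_lit 132, c2_s1, nat_lit 231), (nat_lit 50, c2_s1, nat_lit 196), (nat_lit 174, c2_s2, nat_lit 32), (nat_lit 265, c2_s3, nat_lit 26), (nat_lit 217, c2_s2, nat_lit 26), (nat_lit 203, c2_s1, nat_lit 26), (nat_lit 179, c2_s3, nat_lit 102), (nat_lit 126, c2_s2, nat_lit 245), (nat_lit 38, c2_s1, nat_lit 245), (nat_lit 41, c2_s3, nat_lit 65), (nat_lit 229, c2_s2, nat_lit 65), (nat_lit 185, c2_s1, nat_lit 65), (nat_lit 80, c2_s3, nat_lit 170), (nat_lit 192, c2_s2, nat_lit 170), (nat_lit 52, c2_s1, nat_lit 170), (nat_lit 153, c2_s3, nat_lit 37), (nat_lit 119, c2_s2, nat_lit 37), (nat_lit 208, c2_s2, nat_lit 89), (nat_lit 151, c2_s1, nat_lit 183), (nat_lit 147, c2_s2, nat_lit 122), (nat_lit 209, c2_s2, nat_lit 90), (nat_lit 30, c2_s2, nat_lit 23), (nat_lit 82, c2_s1, nat_lit 157), (nat_lit 125, c2_s3, nat_lit 233), (nat_lit 199, c2_s2, nat_lit 4), (nat_lit 2, c2_s1, nat_lit 4), (nat_lit 109, c2_s2, nat_lit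 215), (nat_lit 57, c2_s3, nat_lit 133), (nat_lit 156, c2_s1, nat_lit 133), (nat_lit 99, c2_s3, nat_lit 243), (nat_lit 93, c2_s3, nat_lit 135), (nat_lit 155, c2_s1, nat_lit 135), (nat_lit 95, c2_s2, nat_lit 108), (nat_lit 189, c2_s1, nat_lit 108), (nat_lit 146, c2_s2, nat_lit 121), (nat_lit 227, c2_s1, nat_lit 121), (nat_lit 267, c2_s3, nat_lit 234), (nat_lit 14, c2_s2, nat_lit 234), (nat_lit 47, c2_s2, nat_lit 86), (nat_lit 70, c2_s1, nat_lit 77), (nat_lit 19, c2_s3, nat_lit 244), (nat_lit 104, c2_s1, nat_lit 244), (nat_lit 201, c2_s2, nat_lit 6), (nat_lit 258, c2_s3, nat_lit 164), (nat_lit 275, c2_s2, nat_lit 266), (nat_lit 274, c2_s1, nat_lit 266), (nat_lit 270, c2_s2, nat_lit 253), (nat_lit 261, c2_s2, nat_lit 264), (nat_lit 255, c2_s3, nat_lit 246), (nat_lit 148, c2_s2, nat_lit 123), (nat_lit 190, c2_s1, nat_lit 123), (nat_lit 222, c2_s1, nat_lit 198), (nat_lit 120, c2_s1, nat_lit 67), (nat_lit 268, c2_s3, nat_lit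 144), (nat_lit 60, c2_s3, nat_lit 36), (nat_lit 118, c2_s2, nat_lit 36), (nat_lit 142, c2_s1, nat_lit 36), (nat_lit 210, c2_s3, nat_lit 107), (nat_lit 3, c2_s1, nat_lit 22), (nat_lit 56, c2_s3, nat_lit 69), (nat_lit 152, c2_s1, nat_lit 171), (nat_lit 256, c2_s3, nat_lit 111), (nat_lit 74, c2_s3, nat_lit 262), (nat_lit 140, c2_s2, nat_lit 175), (nat_lit 98, c2_s3, nat_lit 174), (nat_lit 5, c2_s3, nat_lit 199), (nat_lit 61, c2_s1, nat_lit 118)]
noncomputable def c2_lev2 : Core.Lev := Core.mkLev c2_n c2_w c2_mask c2_L c2_maskL c2_idc (nat_lit 4) [c2_s3, c2_s2] [(nat_lit 122, c2_s3, nat_lit 4), (nat_lit 199, c2_s2, nat_lit 4), (nat_lit 72, c2_s3, nat_lit 122), (nat_lit 147, c2_s2, nat_lit 122), (nat_lit 5, c2_s3, nat_lit 199), (nat_lit 154, c2_s2, nat_lit 199), (nat_lit 114, c2_s3, nat_lit 72), (nat_lit 121, c2_s2, nat_lit 72), (nat_lit 109, c2_s3, nat_lit 147), (nat_lit 73, c2_s2, nat_lit 147), (nat_lit 142, c2_s3,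 nat_lit 5), (nat_lit 200, c2_s2, nat_lit 5), (nat_lit 233, c2_s3, nat_lit 154), (nat_lit 8, c2_s3, nat_lit 114), (nat_lit 25, c2_s3, nat_lit 121), (nat_lit 146, c2_s2, nat_lit 121), (nat_lit 249, c2_s3, nat_lit 109), (nat_lit 24, c2_s2, nat_lit 109), (nat_lit 158, c2_s3, nat_lit 73), (nat_lit 248, c2_s2, nat_lit 142), (nat_lit 12, c2_s3, nat_lit 200), (nat_lit 155, c2_s2, nat_lit 200), (nat_lit 125, c2_s3, nat_lit 233), (nat_lit 13, c2_s2, nat_lit 233), (nat_lit 237, c2_s3, nat_lit 8), (nat_lit 113, c2_s3, nat_lit 25), (nat_lit 216, c2_s2, nat_lit 25), (nat_lit 212, c2_s3, nat_lit 146), (nat_lit 49, c2_s2, nat_lit 249), (nat_lit 215, c2_s2, nat_lit 24), (nat_lit 9, c2_s3, nat_lit 158), (nat_lit 203, c2_s2, nat_lit 158), (nat_lit 110, c2_s3, nat_lit 248), (nat_lit 48, c2_s2, nat_lit 248), (nat_lit 143, c2_s3, nat_lit 12), (nat_lit 18, c2_s2, nat_lit 125), (nat_lit 236, c2_s3, nat_lit 13), (nat_lit 162, c2_s3, nat_lit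 237), (nat_lit 232, c2_s2, nat_lit 113), (nat_lit 163, c2_s2, nat_lit 212), (nat_lit 244, c2_s3, nat_lit 49), (nat_lit 159, c2_s2, nat_lit 9), (nat_lit 126, c2_s3, nat_lit 203), (nat_lit 211, c2_s3, nat_lit 110), (nat_lit 245, c2_s3, nat_lit 162), (nat_lit 204, c2_s3, nat_lit 232), (nat_lit 19, c2_s3, nat_lit 244)]
noncomputable def c2_levels : List Core.Lev := [c2_lev0, c2_lev1, c2_lev2]

def c_ap : Nat := nat_lit 0x24f93a509324b936529465390e4291286a1684a0e82a06809fe7e9665895e3f90640a2688a1e499224aa4a91a428fa3a8da328ba2a56956549164791a789ea799f27b9f663996649765f97a3a8e63b9a66b9aa6f9c6709b26e9b63e8f63c96a5c96e759de7698262986729d27399a6899d7b5e9798761c86dcc72dca5c9715c21484e1270dc2705695a16782e0a825ba6e5b85e1775da1a86618725c871d6f5b96d8461083dc06fdbe599655920881e066ddb66d5755d17385e16855c6715c45b16b5aa0e8360c6f5bc6ed63589618160480db46cdb25815f57a02806006c5b06bd57559557e5f87dda869da65394d531f07bdee67d9e6755d5715b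7fdfe7f5ae6b5ac55153549f67d5f4695a468d4b529497b5ec7ad9c66d9a56959561fc7edfa6adaa6a5515414f7cdf27c5a2685a052147519ea7a5e86659865d96655948e2378d9e7799e56358c62e2f8ba2d779dd7718460d8289a25891d5751d364d92646358d233791e37898a625888b22b8a9db769d9605805fe2388a21749d17419063d8e8ca318c1e1781df61d86616298a227761d77597e5f57c8821f879cf739cd491234893c4ed3a4fd3e4f51b469194e5384dd364d5344cd324c545511434791d4712a4a52849d26495304bd2e4b52c4ad214811f50941501180f4b700cdc44c79344c73fcbf100b4018ee068a043c88080b124c620b03041cf11c0083f88e22c95358b3434f4060503ed082ec4939810320e00d82e1e0df0e85f2ac3b04cdb3b4672981f3a81d335042007c3545a2c8272d874394553240438412364a9070ad145060308526489235053745e07831044de1d9112d42b16c433609125c9f2107e0010b3acca340bd0390318cf9094f01bca52749a2709b090c502ca31b846291091150202823438c3288f2024c41106d11cc63cc261302d1805301cf71087a164221a116348a7400381dc612b8f8064340047f330712e04a2f087258903f46a0c865138ec3d82944858389150f86c2b0942608a2844b1f43f17439428ba308522c06434c28104f5204ce008e815ccf198170cc150dc540d4e4120731ac3c35c144302a3507b1d40f13cc13e8e72e4be450ef0151023c92218831c8163a50132ca80845c2089e3f08c2bc1b3000d134aa36869159170bce3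

def c_bp : Nat := nat_lit 0x1a468da585a1585d304bd2e6399063d3d4fd3e6adaa6a6118420f9ee7d9f1896218a5796057e729d2736f1bb6f5fe7f5ff491234894952d4a58d62585725c5709765f979ee7c1ef95e599621e8821f50d45511f37c9f1725c871e4892a49745d0749e6795e78b62f8ba3c8fa3d6e5b86e9c06fdbe9b66c9ba308ca315655856a2a8b22b8ea398ee5194e52719c57115354954a3a8da3d314cd328721b876128521381e0682187619856b9ad6b27ea027f80e058120080a018d2338d54851d4691a4591d575595546d1a4656b5a96c7aded7b24390a447a5e87a9e2791e398262986388de3698e659912047d2153d51541f87ddf988e22885ca731cb5dd765e1cf739cd9a267999de775dc509415022889e296d5b76da779da759e6789e99f6799d49d264952c4ad2d4f13b4e98460d8282e0a82689a22874a5284aa84a1a8583a0d8319b6699c65d99661b06bdb164d92645374e538a2e8aa31a66a1a77d9f57d24b9364c5cd755d1e077de15b56f5ba5c96e5a9aa699adfc7edfa769d976db36c9b456d5d572419023f5ed7a5e656956544751c479d6761d7709c170d6659564892268966f9c6706519665690a4a91685a068a198621a4d9354d17f605805f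97d5f18d6318ba0e82a05675a5685394d531d5751d39424f939183a8ec39cff0586d0c893310a72b4a0030d8194382211414477150092e500418be1104e080240b429050373187a018f2414721f90415c9a1300e24840308e20284d1b8de3489e0ece623907294da2c871149012740033063390ba23c0d10cc91d48234c3f2902e3f81f06115374ae340c53e81514cbf358ed0405f2d4f00cc041a059394620f07b3e0c32040f120230083432c8016c172403d104762dd16298fb0e813350a21b05e4488902cc11d0f335c8a27cdc128b000ce842c7f0bc94328422d82c0782a064853b85c28c311ccb4428644085a245103aca83344937c700d866384c021c121f4e93389c0d4e3219132e0223f01c0a08b3c4502cc553446b0f8612c50e158f91e4391a4ef35484004083810d19c1b3f42b09509284c713c07234302a4f511811420f42acbb258603d8bd264473dc9843cac0750325cbc114aa430580682109c261f09b1a9171748333caf1bc4b4448c014d91e0db32095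

def c_x0 : Nat := nat_lit 0x23c8fa3d5c9715c22e8b62f70dc2705f97e1f79324b9355555d569ba6d9b1dc779dd6759f679e6795e757d5e581ee7c1ef9665895db86e9b99765f97a809fe7e6c1af6c605812036017f60541501424691946e22886235d5745cd65591668ca318c21785a154d5344d926495276499164d5a56558785e077d384dd3966d9a6712047d214751c4794a5254b6418f639d1741d2a3e8ea36298a2275b16b5a9535495461d86615da765db9264892a749ce7262588629ea7a5e84b52c4adb46cdb252147519cf739cd4a5284aa7c9ee7d8821f879635896181a0881dfb7e9fc715c471922491236a9a96ad43515446d5b76d9eb7b5ec4c5334c9765e177a2287a26338d63471dc9721fd7fdfe4f53f4f93c4ed3a56d5d571e2791e39966498e55952568360c83a0f846107c9f17cdbc6edbd5b56f5ba8ba2a8c8aa2c8ae709be7162d8d6324e9424f8ee3a8e65a9725b69da66a21484e129a66b9aa5394a51896248996859d69a0683a0a1d8721b9d6779da4490e42731cb72a0a8260b80a01801956519674dd57514c5394d9866098982611838fe41902378da385e9795ee86a16844bd2e4c1ad6b1ae689a16826799a6891647919515414f7d5f47d9d875dd66f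dbe701a468da5a4a91a42789ea796659865e1886a195f17e5f51803501208da018b7438e50ec901e4883c012434771b8d5254f802c513b4bc3086c0ad140bc3e2347838ce737cf3214c62c043158644589945c5b11cd2098892e5151a05f2d4be0e8222b05200cfc3b0e13ecaa13cc81b40c11873340af10460414a81f89c004241f0860fc4a22d031d4670645d05462440571fc9d360980785336c4b1d8090b83743050324871d0c341c1a24cb406c94178bb230d44200a364a21506332c020d0801351131042094b6014ba0e0ab3288f3d0fd388e434421448a92385c050b34250426cce0007233ca71681625ca5184230107b138f7380de3e8490b48a34c4020c17400c503858070710d8392446f07c480f0d6418071549a3c4ff3b8dc03c811644442c7d074cc298652f502060f53bce6374b82b4a31c02044cc735c35258a42110a09cae040f63e4f23f866248132c87a334450202c0f50f27c332786a0c82a1ac293a4ea3ace83004c0a0a11a431304112c4a00c0bf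

def c_x1 : Nat := nat_lit 0x23c8fa3d56d5d571e478de24791d471214811f761d77594c5394d5455053dd3755d4689a1681765e1778ce358d26e9b66c7f9fd7fe4c92e4d721c7725374e5386118360a8fa3a8d6a1a7699735d5748c2328c6749ce728060080a499224a72dca7312b4b52c5f97d5f21c86e1d8561785a378da385e9795ed8e6418f68da56926098a61906408fdc3709c14f93d4fdf97e1f7a4a91a41df785e05615a5654a5254ba1684a19d1741d2779dd7715755955a1e89a226799a686559465a4591e466f9c06fdf47d9f566d9a6713c4ed3a5c9715c22f8ba2da2e8aa31e579de65796057d47519489e6789e9ce735cf76dda7655454d52a0683a09fc7edfa6bdb16c1c6715c45896158e1f87a204992549d7f605809124390a759de769966498e55952566adaa6a52e4c12f7a5e87a9b36c9b4591665958a625888862388a6a9a66b6499164e5194e526edbd6f1f17cdf26799d67d364d5345b16b5aa298a2279c6709be4f93a506b9ad6b1314cd327bdee7c1b96e1ba59d695a18761985892268961886a1996e5a972398ee3a4892448e0c83a0d50d45511425054046d1a4660982e0a9f27b9f67f9fa806659865d6d5bd6e8aa2c8ae5f97a5d7b1eb7b65895e596d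9b56dd284a9296358c62e0781a0883e118420480e0584a1484d18044f0410642f47b318423a827278e10d0971b42f17048144fd40c060e028054da4549d0c047104360581a214f2424e7074582f07a400221e08a3a4d53d0053085e00c2a194501cc9244c562d4d02c8fa405060b87534c43110fe0fca4034be07ce42e88f18cae330531c4820604e324c537452000bf24d0d2c0240e435100313d4a2389112ecd221c603e0c7408a62604f37cb71a001258b82201e2cd0b32c54094943809f03020300f61b881234491d90f114fc0c8372c45b238e520c173990e188c40ac022d84a1dc2d0210528ca0084841f4c83cc4c3e4b42185508cec4305f2a06f30446450ca2001b1c0f701d1645c0f284a51f0ef1d095338913ec3312ceb02cd6360aa0501c2b0121ac9b04c3b0f83c0f49c36cd71a4a91a89a1b0ab3644d024e822c2c448af334ed1f8e3428790386630cde2643a010d141c90164611745a0408933d1015cff370670a4b92300a420d4064a71fcf1098ee1c8ad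

def c_prog1 : List (Nat × Nat × Nat) := [(nat_lit 0, nat_lit 0, nat_lit 1), (nat_lit 0, nat_lit 2, nat_lit 0), (nat_lit 0, nat_lit 2, nat_lit 0), (nat_lit 0, nat_lit 4, nat_lit 0), (nat_lit 0, nat_lit 5, nat_lit 0), (nat_lit 0, nat_lit 5, nat_lit 0), (nat_lit 0, nat_lit 6, nat_lit 0), (nat_lit 0, nat_lit 8, nat_lit 0), (nat_lit 0, nat_lit 9, nat_lit 0), (nat_lit 0, nat_lit 9, nat_lit 0), (nat_lit 0, nat_lit 10, nat_lit 0), (nat_lit 0, nat_lit 12, nat_lit 0), (nat_lit 0, nat_lit 13, nat_lit 0), (nat_lit 0, nat_lit 13, nat_lit 0), (nat_lit 0, nat_lit 14, nat_lit 0), (nat_lit 0, nat_lit 16, nat_lit 0), (nat_lit 0, nat_lit 16, nat_lit 0), (nat_lit 0, nat_lit 17, nat_lit 0), (nat_lit 0, nat_lit 19, nat_lit 0), (nat_lit 0, nat_lit 19, nat_lit 0), (nat_lit 0, nat_lit 21, nat_lit 0), (nat_lit 0, nat_lit 22, nat_lit 0), (nat_lit 0, nat_lit 22, nat_lit 0), (nat_lit 0, nat_lit 24, nat_lit 0), (nat_lit 0, nat_lit 24, nat_lit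 0), (nat_lit 0, nat_lit 25, nat_lit 0), (nat_lit 0, nat_lit 27, nat_lit 0), (nat_lit 0, nat_lit 27, nat_lit 0), (nat_lit 0, nat_lit 29, nat_lit 0), (nat_lit 0, nat_lit 29, nat_lit 0), (nat_lit 0, nat_lit 31, nat_lit 0), (nat_lit 0, nat_lit 32, nat_lit 0), (nat_lit 0, nat_lit 33, nat_lit 32), (nat_lit 0, nat_lit 34, nat_lit 0), (nat_lit 0, nat_lit 34, nat_lit 0), (nat_lit 0, nat_lit 35, nat_lit 0), (nat_lit 0, nat_lit 37, nat_lit 0), (nat_lit 0, nat_lit 37, nat_lit 0), (nat_lit 0, nat_lit 39, nat_lit 0), (nat_lit 0, nat_lit 40, nat_lit 0), (nat_lit 0, nat_lit 40, nat_lit 0), (nat_lit 0, nat_lit 42, nat_lit 0), (nat_lit 0, nat_lit 43, nat_lit 0), (nat_lit 0, nat_lit 43, nat_lit 0), (nat_lit 0, nat_lit 44, nat_lit 0), (nat_lit 0, nat_lit 46, nat_lit 0), (nat_lit 0, nat_lit 46, nat_lit 0), (nat_lit 0, nat_lit 47, nat_lit 0), (nat_lit 0, nat_lit 49, nat_lit 0), (nat_lit 0, nat_lit 50, nat_lit 0), (nat_lit 0, nat_lit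 50, nat_lit 0), (nat_lit 0, nat_lit 52, nat_lit 0), (nat_lit 0, nat_lit 52, nat_lit 0), (nat_lit 0, nat_lit 53, nat_lit 0), (nat_lit 0, nat_lit 55, nat_lit 0), (nat_lit 0, nat_lit 55, nat_lit 0), (nat_lit 0, nat_lit 56, nat_lit 0), (nat_lit 0, nat_lit 58, nat_lit 0), (nat_lit 0, nat_lit 59, nat_lit 0), (nat_lit 0, nat_lit 59, nat_lit 0), (nat_lit 0, nat_lit 61, nat_lit 0), (nat_lit 0, nat_lit 61, nat_lit 0), (nat_lit 0, nat_lit 62, nat_lit 0), (nat_lit 0, nat_lit 63, nat_lit 30), (nat_lit 0, nat_lit 65, nat_lit 0), (nat_lit 0, nat_lit 66, nat_lit 0), (nat_lit 0, nat_lit 66, nat_lit 0), (nat_lit 0, nat_lit 67, nat_lit 0), (nat_lit 0, nat_lit 69, nat_lit 0), (nat_lit 0, nat_lit 69, nat_lit 0), (nat_lit 0, nat_lit 70, nat_lit 0), (nat_lit 0, nat_lit 72, nat_lit 0), (nat_lit 0, nat_lit 73, nat_lit 0), (nat_lit 0, nat_lit 73, nat_lit 0), (nat_lit 0, nat_lit 75, nat_lit 0), (nat_lit 0, nat_lit 76, nat_lit 0), (nat_lit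 0, nat_lit 76, nat_lit 0), (nat_lit 0, nat_lit 77, nat_lit 0), (nat_lit 0, nat_lit 79, nat_lit 0), (nat_lit 0, nat_lit 79, nat_lit 0), (nat_lit 0, nat_lit 81, nat_lit 0), (nat_lit 0, nat_lit 82, nat_lit 0), (nat_lit 0, nat_lit 82, nat_lit 0), (nat_lit 0, nat_lit 84, nat_lit 0), (nat_lit 0, nat_lit 85, nat_lit 0), (nat_lit 0, nat_lit 85, nat_lit 0), (nat_lit 0, nat_lit 86, nat_lit 0), (nat_lit 0, nat_lit 88, nat_lit 0), (nat_lit 0, nat_lit 88, nat_lit 0), (nat_lit 0, nat_lit 90, nat_lit 0), (nat_lit 0, nat_lit 90, nat_lit 0), (nat_lit 0, nat_lit 91, nat_lit 0), (nat_lit 0, nat_lit 93, nat_lit 57), (nat_lit 0, nat_lit 93, nat_lit 0), (nat_lit 0, nat_lit 94, nat_lit 0), (nat_lit 0, nat_lit 96, nat_lit 0), (nat_lit 0, nat_lit 97, nat_lit 0), (nat_lit 0, nat_lit 97, nat_lit 0), (nat_lit 0, nat_lit 98, nat_lit 0), (nat_lit 0, nat_lit 100, nat_lit 0), (nat_lit 0, nat_lit 101, nat_lit 0), (nat_lit 0, nat_lit 101, nat_lit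 0), (nat_lit 0, nat_lit 103, nat_lit 0), (nat_lit 0, nat_lit 103, nat_lit 0), (nat_lit 0, nat_lit 105, nat_lit 0), (nat_lit 0, nat_lit 106, nat_lit 0), (nat_lit 0, nat_lit 106, nat_lit 0), (nat_lit 0, nat_lit 107, nat_lit 0), (nat_lit 0, nat_lit 109, nat_lit 0), (nat_lit 0, nat_lit 110, nat_lit 0), (nat_lit 0, nat_lit 110, nat_lit 0), (nat_lit 0, nat_lit 111, nat_lit 0), (nat_lit 0, nat_lit 113, nat_lit 0), (nat_lit 0, nat_lit 113, nat_lit 0), (nat_lit 0, nat_lit 114, nat_lit 0), (nat_lit 0, nat_lit 116, nat_lit 0), (nat_lit 0, nat_lit 116, nat_lit 0), (nat_lit 0, nat_lit 117, nat_lit 0), (nat_lit 0, nat_lit 119, nat_lit 0), (nat_lit 0, nat_lit 119, nat_lit 0), (nat_lit 0, nat_lit 120, nat_lit 0), (nat_lit 0, nat_lit 122, nat_lit 0), (nat_lit 0, nat_lit 123, nat_lit 0), (nat_lit 0, nat_lit 123, nat_lit 23), (nat_lit 0, nat_lit 125, nat_lit 0), (nat_lit 0, nat_lit 126, nat_lit 0), (nat_lit 0, nat_lit 126, nat_lit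 0), (nat_lit 0, nat_lit 128, nat_lit 0), (nat_lit 0, nat_lit 128, nat_lit 0), (nat_lit 0, nat_lit 130, nat_lit 0), (nat_lit 0, nat_lit 131, nat_lit 0), (nat_lit 0, nat_lit 131, nat_lit 0), (nat_lit 0, nat_lit 132, nat_lit 0), (nat_lit 0, nat_lit 134, nat_lit 0), (nat_lit 0, nat_lit 134, nat_lit 0), (nat_lit 0, nat_lit 135, nat_lit 0), (nat_lit 0, nat_lit 137, nat_lit 0), (nat_lit 0, nat_lit 138, nat_lit 0), (nat_lit 0, nat_lit 138, nat_lit 0), (nat_lit 0, nat_lit 140, nat_lit 0), (nat_lit 0, nat_lit 140, nat_lit 139), (nat_lit 0, nat_lit 142, nat_lit 0), (nat_lit 0, nat_lit 142, nat_lit 0), (nat_lit 0, nat_lit 143, nat_lit 0), (nat_lit 0, nat_lit 145, nat_lit 0), (nat_lit 0, nat_lit 146, nat_lit 0), (nat_lit 0, nat_lit 146, nat_lit 0), (nat_lit 0, nat_lit 148, nat_lit 0), (nat_lit 0, nat_lit 148, nat_lit 0), (nat_lit 0, nat_lit 150, nat_lit 0), (nat_lit 0, nat_lit 151, nat_lit 0), (nat_lit 0, nat_lit 151, nat_lit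 0), (nat_lit 0, nat_lit 152, nat_lit 0), (nat_lit 0, nat_lit 154, nat_lit 0), (nat_lit 0, nat_lit 154, nat_lit 0), (nat_lit 0, nat_lit 155, nat_lit 0), (nat_lit 0, nat_lit 157, nat_lit 0), (nat_lit 0, nat_lit 158, nat_lit 0), (nat_lit 0, nat_lit 158, nat_lit 0), (nat_lit 0, nat_lit 160, nat_lit 0), (nat_lit 0, nat_lit 160, nat_lit 0), (nat_lit 0, nat_lit 162, nat_lit 0), (nat_lit 0, nat_lit 163, nat_lit 68), (nat_lit 0, nat_lit 164, nat_lit 0), (nat_lit 0, nat_lit 164, nat_lit 0), (nat_lit 0, nat_lit 165, nat_lit 0), (nat_lit 0, nat_lit 167, nat_lit 0), (nat_lit 0, nat_lit 167, nat_lit 0), (nat_lit 0, nat_lit 168, nat_lit 0), (nat_lit 0, nat_lit 170, nat_lit 0), (nat_lit 0, nat_lit 170, nat_lit 0), (nat_lit 0, nat_lit 172, nat_lit 0), (nat_lit 0, nat_lit 173, nat_lit 0), (nat_lit 0, nat_lit 173, nat_lit 0), (nat_lit 0, nat_lit 174, nat_lit 0), (nat_lit 0, nat_lit 176, nat_lit 0), (nat_lit 0, nat_lit 177, nat_lit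 0), (nat_lit 0, nat_lit 177, nat_lit 0), (nat_lit 0, nat_lit 178, nat_lit 0), (nat_lit 0, nat_lit 180, nat_lit 0), (nat_lit 0, nat_lit 181, nat_lit 0), (nat_lit 0, nat_lit 181, nat_lit 0), (nat_lit 0, nat_lit 182, nat_lit 0), (nat_lit 0, nat_lit 184, nat_lit 0), (nat_lit 0, nat_lit 184, nat_lit 0), (nat_lit 0, nat_lit 186, nat_lit 0), (nat_lit 0, nat_lit 186, nat_lit 0), (nat_lit 0, nat_lit 188, nat_lit 0), (nat_lit 0, nat_lit 189, nat_lit 0)]

def c2_Ti : List Nat := [nat_lit 0x11865b6980fc52a6dda2a2544612235593d20eb0c0f0fe843c2e62c4318975c8790d94deb050b01000140eafcd10c78a721c44410d8e829212f62a513ab591ae849b64b61f59404f4335697208973d9f18e9673820140905abdcc5e4c2b994324cc4190e5580c1930b2f87076d48792c9cce59984b0f2628948c7e5e205dcfb1a1981a03038413c383209ce4a915be8aad15c1ae0e6f23a889b0d44994c0d84a3740afe0605c58d53b42100aa7c15d0a212d37a28127f8041e7052091e6e945c187d00683d96cef5d878826266a7db6e133b0510e24534c922d5628d86454d045fa15030e8445234adc32f46fb5c403f3633d1cf776099886e812d598375004d0e28460f4ee2e282f9627d89309c0a7509b58c9d78245a4540d298e20254370b295071005e487540c989271a1a26358b98c72b42b4291e6a39ae906f9,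 nat_lit 0x1181a0e1fa42631445e0670a745097751717a15241b53d158189cf6da0899208f01530dba3e7cc354244118150ee83a39c9235552a15efc6db28ee922db89981285151ee187714132001ea18487c1fc30bcf816338b10f1887182ed1b9a436082b39576714d839291664ab572b65c2dde4d430a043f0126bc442d63188a210b6a98840d3798d80666628ec98930790caaf469025df09468e5b05f891153914251cd62a2572b1c6cb382084c656f14878b458295fcec6118116950e9d8801437b3464d7400b6268e8894cd6791281c9c72148092cdf42c20b26e5f3e9b27f5002d1f0067acdd30e061d590416e310d0980b2320ec052340d8198292dc8bc08220f017704190830338ac024f0d02920f606ac956a751bad747a4487914e64f8b8fa478ba68b483098cc08c75f95e043a3f3ecba46532a56aff7ab44d491]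

def c_D : Nat := nat_lit 0x1188bc5a2b1489c4a231087c3a1b0c85c2a130883c1a0b0481c0a03007fbf9fafc49a4928954fa7940a143a250c8847a3920914da69389d41a15048445a35148c4ba652c9840bb5d8ee77be5f0fa7db85c6e0713a5d0ea75bd5e8f67bb75bedc6f395cee4733c5e6f07936c783e1d8f48a47221186a381d0dc72412190084341b0fc6230190cce471399d0fc7d3fa00cc683299cdc6d379c0f4793d9f0c4643098cd46c349acec783a9dcc0cc65b359cd86bb65b4c0612fd82c863b2594d469b55acbc5f2ed7ac46330d8ad06933da2ba120984625168bc582e0e880441f108a45628150703c270c860341b2a158a6552e97cb85e26940a44f28964b6582d1309c5724920944b572c15aaf5bae56cb853aa958a955acd6ab25a29950b151a8948a50885c12080502c2016028100c07068301c0f0984828150080c0002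

def c_Di : Nat := nat_lit 0x1188bc5a2b1489c4a231087c3a1b0c85c2a130883c1a0b0481c0a03007fbf9fafc69b51acd563b2194c95eaed7cbc6bb61b4d965b319ccd60afd84c068b3da4d062b0d8cc45d1e4f47c3d9b4dc703798cc264311f4fc803f9c4e4743999cca68331dcea783b1acd26c351805428158a4421f11080382e160bc5a2511898481d1387830190d869e8f57bbd9d0e975ba9bcdc6fb75f0f97dbe9d8ed77bb9c4e071b85e4f079bc5cce473b95b69a4da75388e47a45208441215069e4fa85409249a552888432250e984b2652e8c4523516812110086411c8dc74381a1188847228f4763e1e0d47e36180c466325a2c96ab355aa558aa532e16cb95babd5ab05729d62a85128d4aa42d160b6592893ca45026178b85f2e954a6562a134ae4e24124964a0b0400805038182e1104024160a0904c2a14060341e0e010000601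

end Cfsg.Agent.Lib.U43Cov.GData
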